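import Groth.Prelude.Def_Frob
import Groth.Prelude.Def_Flat
import Groth.Agent.S14929
import Groth.Agent.S14930
import Groth.Agent.H8Lim.Limit
import Groth.Agent.UnivHomeo.Scheme
import Mathlib.AlgebraicGeometry.AffineTransitionLimit
import Mathlib.AlgebraicGeometry.Morphisms.Flat
import Mathlib.FieldTheory.IsAlgClosed.AlgebraicClosure

/-!
# Perfect schemes and perfections

For a scheme of characteristic `p` the limit of the Frobenius tower is a perfection; hence every
perfection is an affine, integral universal homeomorphism, and on a qcqs scheme every global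
function upstairs has a `p`-power coming from downstairs, with nilpotent kernel.
-/

set_option autoImplicit false

universe u

open CategoryTheory CategoryTheory.Limits AlgebraicGeometry Opposite

namespace Groth.Agent.PerfSchLib

variable (p : ℕ) [Fact p.Prime]

section Frob

variable (X : Scheme.{u}) [FrobSch.IsCharP X p]

instance isIntegralHom_frob : IsIntegralHom (FrobSch.frob X p) :=
  (Groth.Agent.S14929.result p X).2.1

/-- Iterates of the absolute Frobenius. -/
noncomputable def fpow : ℕ → (X ⟶ X)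
  | 0 => 𝟙 X
  | k + 1 => fpow k ≫ FrobSch.frob X p

lemma fpow_add (a : ℕ) : ∀ b : ℕ, fpow p X (a + b) = fpow p X a ≫ fpow p X b
  | 0 => (Category.comp_id _).symm
  | b + 1 => by
    show fpow p X (a + b) ≫ _ = fpow p X a ≫ fpow p X b ≫ _
    rw [fpow_add a b, Category.assoc]

lemma frob_fpow (k : ℕ) : FrobSch.frob X p ≫ fpow p X k = fpow p X (k + 1) := by
  rw [add_comm, fpow_add]
  simp [fpow]

instance isAffineHom_fpow (k : ℕ) : IsAffineHom (fpow p X k) := by
  induction k with
  | zero => exact inferInstanceAs (IsAffineHom (𝟙 X))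
  | succ k ih => exact inferInstanceAs (IsAffineHom (fpow p X k ≫ FrobSch.frob X p))

lemma fpow_appTop : ∀ (k : ℕ) (s : Γ(X, ⊤)), (fpow p X k).appTop s = s ^ p ^ k
  | 0, s => by simp [fpow]
  | k + 1, s => by
    show (fpow p X k ≫ FrobSch.frob X p).appTop s = _
    rw [Scheme.Hom.comp_appTop]
    show (fpow p X k).appTop (s ^ p) = _
    rw [fpow_appTop k, ← pow_mul, pow_succ']

/-- The Frobenius tower of `X`, indexed in the universe of `X`. -/
noncomputable def tower : (ULift.{u} ℕ)ᵒᵖ ⥤ Scheme.{u} where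
  obj _ := X
  map {a b} _ := fpow p X (a.unop.down - b.unop.down)
  map_id a := by simp [fpow]
  map_comp {a b c} f g := by
    have h1 : b.unop.down ≤ a.unop.down := (leOfHom f.unop : b.unop ≤ a.unop)
    have h2 : c.unop.down ≤ b.unop.down := (leOfHom g.unop : c.unop ≤ b.unop)
    rw [← fpow_add]
    congr 1
    omega

instance {a b : (ULift.{u} ℕ)ᵒᵖ} (f : a ⟶ b) : IsAffineHom ((tower p X).map f) :=
  isAffineHom_fpow p X _

end Frob

section Perfect

variable {X Y : Scheme.{u}} [FrobSch.IsCharP X p] [FrobSch.IsCharP Y p]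

/-- An open subscheme of a perfect scheme is perfect. -/
theorem isPerfect_of_isOpenImmersion (j : Y ⟶ X) [IsOpenImmersion j]
    (hX : FrobSch.IsPerfect X p) : FrobSch.IsPerfect Y p := by
  haveI : IsIso (FrobSch.frob X p) := hX
  have : IsOpenImmersion (FrobSch.frob Y p ≫ j) := by
    rw [FrobSch.frob_comp]
    infer_instance
  have h1 : IsOpenImmersion (FrobSch.frob Y p) := IsOpenImmersion.of_comp _ j
  have h2 : Surjective (FrobSch.frob Y p) := ⟨fun x => ⟨x, rfl⟩⟩
  exact (isIso_iff_isOpenImmersion_and_epi_base (FrobSch.frob Y p)).2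
    ⟨h1, (TopCat.epi_iff_surjective _).2 h2.surj⟩

/-- On a perfect scheme every global section has a `p`-th root. -/
theorem surjective_pow_of_isPerfect (hX : FrobSch.IsPerfect X p) :
    Function.Bijective (fun s : Γ(X, ⊤) => s ^ p) := by
  haveI : IsIso (FrobSch.frob X p) := hX
  haveI : IsIso (FrobSch.frob X p).appTop :=
    inferInstanceAs (IsIso (Scheme.Γ.map (FrobSch.frob X p).op))
  exact ConcreteCategory.bijective_of_isIso (FrobSch.frob X p).appTop

/-- An affine scheme on which `s ↦ s ^ p` is bijective is perfect. -/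
theorem isPerfect_of_isAffine [IsAffine X] (h : Function.Bijective (fun s : Γ(X, ⊤) => s ^ p)) :
    FrobSch.IsPerfect X p := by
  haveI : IsIso (FrobSch.frob X p).appTop :=
    (ConcreteCategory.isIso_iff_bijective _).2 h
  have h2 := Scheme.toSpecΓ_naturality (FrobSch.frob X p)
  rw [← IsIso.eq_comp_inv] at h2
  show IsIso (FrobSch.frob X p)
  rw [h2]
  infer_instance

/-- The spectrum of an algebraically closed field is perfect. -/
theorem isPerfect_spec_isAlgClosed (K : Type u) [Field K] [IsAlgClosed K]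
    [FrobSch.IsCharP (Spec (.of K)) p] : FrobSch.IsPerfect (Spec (.of K)) p := by
  refine isPerfect_of_isAffine p ?_
  let e := (Scheme.ΓSpecIso (.of K)).commRingCatIsoToRingEquiv
  have hp : (p : K) = 0 := by
    have h := congrArg e (FrobSch.IsCharP.natCast_eq_zero (X := Spec (.of K)) (p := p))
    simpa using h
  constructor
  · intro a b hab
    apply e.injective
    have := congrArg e hab
    simp only [map_pow] at this
    exact (FrobSch.powHom p K hp).injective this
  · intro b
    obtain ⟨z, hz⟩ := IsAlgClosed.exists_pow_nat_eq (e b) (Fact.out : p.Prime).pos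
    exact ⟨e.symm z, e.injective (by simpa using hz)⟩

end Perfect

section Existence

variable (X : Scheme.{u}) [FrobSch.IsCharP X p]

/-- The limit of the Frobenius tower is a perfection with affine structure map. -/
theorem exists_perfection :
    ∃ (c : Cone (tower p X)) (_ : IsLimit c) (_ : FrobSch.IsCharP c.pt p),
      FrobSch.IsPerfection (XP := c.pt) (c.π.app (op ⟨0⟩)) p ∧ ∀ i, IsAffineHom (c.π.app i) := by
  obtain ⟨c, hc, haff⟩ := Groth.Agent.H8Lim.exists_limit_cone (tower p X)
  let π : ℕ → (c.pt ⟶ X) := fun n => c.π.app (op ⟨n⟩)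
  have hw : ∀ n m, m ≤ n → π n ≫ fpow p X (n - m) = π m := fun n m h =>
    c.w (homOfLE (show (⟨m⟩ : ULift.{u} ℕ) ≤ ⟨n⟩ from h)).op
  have hstep : ∀ n, π (n + 1) ≫ FrobSch.frob X p = π n := fun n => by
    have := hw (n + 1) n (Nat.le_succ n)
    simpa [show n + 1 - n = 0 + 1 by omega, fpow] using this
  haveI : FrobSch.IsCharP c.pt p := FrobSch.IsCharP.of_hom (π 0) p
  have hext : ∀ {T : Scheme.{u}} (g g' : T ⟶ c.pt), (∀ n, g ≫ π n = g' ≫ π n) → g = g' :=
    fun g g' h => hc.hom_ext fun i => h i.unop.down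
  have hlift : ∀ {T : Scheme.{u}} (h : ℕ → (T ⟶ X)),
      (∀ n, h (n + 1) ≫ FrobSch.frob X p = h n) → ∃ g : T ⟶ c.pt, ∀ n, g ≫ π n = h n := by
    intro T h hh
    have hk : ∀ m k, h (m + k) ≫ fpow p X k = h m := by
      intro m k
      induction k with
      | zero => exact Category.comp_id _
      | succ k ih => rw [← frob_fpow, ← Category.assoc, ← add_assoc, hh, ih]
    let c' : Cone (tower p X) :=
      { pt := T
        π :=
          { app := fun i => h i.unop.down
            naturality := fun a b f => by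
              have hba : b.unop.down ≤ a.unop.down := (leOfHom f.unop : b.unop ≤ a.unop)
              show 𝟙 T ≫ h b.unop.down =
                h a.unop.down ≫ fpow p X (a.unop.down - b.unop.down)
              rw [Category.id_comp]
              conv_rhs => enter [1]; rw [show a.unop.down =
                b.unop.down + (a.unop.down - b.unop.down) by omega]
              exact (hk _ _).symm } }
    exact ⟨hc.lift c', fun n => hc.fac c' (op ⟨n⟩)⟩
  refine ⟨c, hc, inferInstance, ⟨?_, ?_⟩, haff⟩
  · obtain ⟨g, hg⟩ := hlift (fun n => π (n + 1)) fun n => hstep (n + 1)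
    refine ⟨g, hext _ _ fun n => ?_, hext _ _ fun n => ?_⟩
    · rw [Category.assoc, hg, FrobSch.frob_comp, hstep, Category.id_comp]
    · rw [Category.assoc, FrobSch.frob_comp, reassoc_of% hg, hstep, Category.id_comp]
  · intro Y _ hY
    haveI : IsIso (FrobSch.frob Y p) := hY
    constructor
    · intro g g' hgg
      refine hext _ _ fun n => ?_
      induction n with
      | zero => exact hgg
      | succ n ih =>
        rw [← cancel_epi (FrobSch.frob Y p), FrobSch.frob_comp, FrobSch.frob_comp,
          Category.assoc, Category.assoc, hstep, ih]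
    · intro h
      let k : ℕ → (Y ⟶ X) := fun n => Nat.rec h (fun _ x => inv (FrobSch.frob Y p) ≫ x) n
      obtain ⟨g, hg⟩ := hlift k fun n => by
        show (inv (FrobSch.frob Y p) ≫ k n) ≫ _ = k n
        rw [Category.assoc, ← FrobSch.frob_comp, IsIso.inv_hom_id_assoc]
      exact ⟨g, hg 0⟩

end Existence

section Properties

variable {X XP : Scheme.{u}} [FrobSch.IsCharP X p] [FrobSch.IsCharP XP p] {π : XP ⟶ X}

omit [FrobSch.IsCharP X p] in
/-- Two morphisms from a perfect scheme into a perfection agree if their composites do. -/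
theorem perfection_hom_ext (hπ : FrobSch.IsPerfection π p) {T : Scheme.{u}} [FrobSch.IsCharP T p]
    (hT : FrobSch.IsPerfect T p) {g g' : T ⟶ XP} (h : g ≫ π = g' ≫ π) : g = g' :=
  (hπ.2 T hT).1 h

omit [FrobSch.IsCharP X p] in
/-- Perfections are unique up to a unique isomorphism. -/
theorem exists_iso_of_isPerfection (hπ : FrobSch.IsPerfection π p) {XP' : Scheme.{u}}
    [FrobSch.IsCharP XP' p] {π' : XP' ⟶ X} (hπ' : FrobSch.IsPerfection π' p) :
    ∃ e : XP ≅ XP', e.hom ≫ π' = π := by
  obtain ⟨a, ha : a ≫ π' = π⟩ := (hπ'.2 XP hπ.1).2 π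
  obtain ⟨b, hb : b ≫ π = π'⟩ := (hπ.2 XP' hπ'.1).2 π'
  exact ⟨⟨a, b, perfection_hom_ext p hπ hπ.1 (by rw [Category.assoc, hb, ha, Category.id_comp]),
    perfection_hom_ext p hπ' hπ'.1 (by rw [Category.assoc, ha, hb, Category.id_comp])⟩, ha⟩

theorem exists_limit_cone_of_isPerfection (hπ : FrobSch.IsPerfection π p) :
    ∃ (c : Cone (tower p X)) (_ : IsLimit c) (e : XP ≅ c.pt),
      e.hom ≫ c.π.app (op ⟨0⟩) = π ∧ ∀ i, IsAffineHom (c.π.app i) := by
  obtain ⟨c, hc, h, h0, haff⟩ := exists_perfection p X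
  obtain ⟨e, he⟩ := exists_iso_of_isPerfection p hπ h0
  exact ⟨c, hc, e, he, haff⟩

theorem isAffineHom_of_isPerfection (hπ : FrobSch.IsPerfection π p) : IsAffineHom π := by
  obtain ⟨c, _, e, he, haff⟩ := exists_limit_cone_of_isPerfection p hπ
  haveI := haff (op ⟨0⟩)
  rw [← he]
  exact MorphismProperty.comp_mem _ _ _ (inferInstanceAs (IsAffineHom e.hom)) (haff (op ⟨0⟩))

omit [FrobSch.IsCharP XP p] in
theorem exists_perfect_extension (K : Type u) [Field K] (g : Spec (.of K) ⟶ X) :
    ∃ (L : Type u) (_ : Field L) (φ : Spec (.of L) ⟶ Spec (.of K)) (_ : Epi φ)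
      (_ : Surjective φ) (_ : FrobSch.IsCharP (Spec (.of L)) p),
      FrobSch.IsPerfect (Spec (.of L)) p := by
  let φ : Spec (.of (AlgebraicClosure K)) ⟶ Spec (.of K) :=
    Spec.map (CommRingCat.ofHom (algebraMap K (AlgebraicClosure K)))
  haveI : FrobSch.IsCharP (Spec (.of (AlgebraicClosure K))) p := FrobSch.IsCharP.of_hom (φ ≫ g) p
  haveI : Flat φ := by
    rw [HasRingHomProperty.Spec_iff (P := @Flat)]
    exact RingHom.flat_algebraMap_iff.2 inferInstance
  haveI : Surjective φ := ⟨fun x => ⟨default, Subsingleton.elim _ _⟩⟩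
  exact ⟨AlgebraicClosure K, inferInstance, φ, Flat.epi_of_flat_of_surjective φ, inferInstance,
    inferInstance, isPerfect_spec_isAlgClosed p _⟩

theorem universallyInjective_of_isPerfection (hπ : FrobSch.IsPerfection π p) :
    UniversallyInjective π := by
  refine ((tfae_universallyInjective π).out 0 1 rfl rfl).2 fun K _ g g' h => ?_
  obtain ⟨L, _, φ, hφ, _, _, hL⟩ := exists_perfect_extension p (X := X) K (g ≫ π)
  rw [← cancel_epi φ]
  exact perfection_hom_ext p hπ hL (by simp only [Category.assoc]; exact congrArg (φ ≫ ·) h)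

theorem surjective_of_isPerfection (hπ : FrobSch.IsPerfection π p) : Surjective π := by
  refine ⟨fun x => ?_⟩
  obtain ⟨L, _, φ, _, _, _, hL⟩ := exists_perfect_extension p (X.residueField x)
    (X.fromSpecResidueField x)
  obtain ⟨g, hg : g ≫ π = φ ≫ X.fromSpecResidueField x⟩ :=
    (hπ.2 _ hL).2 (φ ≫ X.fromSpecResidueField x)
  refine ⟨g default, ?_⟩
  rw [← Scheme.Hom.comp_apply, hg, Scheme.Hom.comp_apply, Scheme.fromSpecResidueField_apply]

theorem compactSpace_of_isPerfection (hπ : FrobSch.IsPerfection π p) [CompactSpace X] :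
    CompactSpace XP :=
  haveI := isAffineHom_of_isPerfection p hπ
  QuasiCompact.compactSpace_of_compactSpace π

theorem quasiSeparatedSpace_of_isPerfection (hπ : FrobSch.IsPerfection π p)
    [QuasiSeparatedSpace X] : QuasiSeparatedSpace XP :=
  haveI := isAffineHom_of_isPerfection p hπ
  quasiSeparatedSpace_of_quasiSeparated π

/-- On a qcqs scheme, global functions on the perfection have a `p`-power from downstairs. -/
theorem exists_appTop_eq_pow (hπ : FrobSch.IsPerfection π p) [CompactSpace X]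
    [QuasiSeparatedSpace X] (t : Γ(XP, ⊤)) :
    ∃ (n : ℕ) (r : Γ(X, ⊤)), π.appTop r = t ^ p ^ n := by
  obtain ⟨c, hc, e, he, haff⟩ := exists_limit_cone_of_isPerfection p hπ
  haveI : ∀ i, CompactSpace ((tower p X).obj i) := fun _ => inferInstanceAs (CompactSpace X)
  haveI : ∀ i, QuasiSeparatedSpace ((tower p X).obj i) := fun _ =>
    inferInstanceAs (QuasiSeparatedSpace X)
  obtain ⟨i, r, hr⟩ := exists_appTop_π_eq_of_isLimit (tower p X) c hc (e.inv.appTop t)
  refine ⟨i.unop.down, r, ?_⟩
  let πi : c.pt ⟶ X := c.π.app i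
  have hr' : e.inv.appTop t = πi.appTop r := hr
  have hπi : π = e.hom ≫ πi ≫ fpow p X i.unop.down := by
    rw [← he]
    congr 1
    exact (c.w (homOfLE (show (⟨0⟩ : ULift.{u} ℕ) ≤ i.unop from Nat.zero_le _)).op).symm
  rw [hπi]
  simp only [Scheme.Hom.comp_appTop, CommRingCat.comp_apply, fpow_appTop, map_pow, ← hr']
  rw [← CommRingCat.comp_apply, ← Scheme.Hom.comp_appTop, Iso.hom_inv_id]
  simp

/-- On a quasi-compact scheme, functions vanishing on the perfection are nilpotent. -/
theorem exists_pow_eq_zero (hπ : FrobSch.IsPerfection π p) [CompactSpace X] (r : Γ(X, ⊤))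
    (h : π.appTop r = 0) : ∃ n : ℕ, r ^ p ^ n = 0 := by
  obtain ⟨c, hc, e, he, haff⟩ := exists_limit_cone_of_isPerfection p hπ
  haveI : CompactSpace ((tower p X).obj (op ⟨0⟩)) := inferInstanceAs (CompactSpace X)
  let π0 : c.pt ⟶ X := c.π.app (op ⟨0⟩)
  have h0 : π0.appTop r = 0 := by
    haveI : IsIso e.hom.appTop := inferInstanceAs (IsIso (Scheme.Γ.map e.hom.op))
    apply (ConcreteCategory.bijective_of_isIso e.hom.appTop).1
    rw [map_zero, ← CommRingCat.comp_apply, ← Scheme.Hom.comp_appTop]
    show (e.hom ≫ π0).appTop r = 0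
    rw [show e.hom ≫ π0 = π from he, h]
  obtain ⟨j, f, hj⟩ := exists_appTop_map_eq_zero_of_isLimit (tower p X) c hc
    (i := op ⟨0⟩) r h0
  refine ⟨j.unop.down - 0, ?_⟩
  rw [← fpow_appTop]
  exact hj

theorem isIntegralHom_of_isAffine (hπ : FrobSch.IsPerfection π p) [IsAffine X] :
    IsIntegralHom π := by
  haveI := isAffineHom_of_isPerfection p hπ
  rw [HasAffineProperty.iff_of_isAffine (P := @IsIntegralHom)]
  refine ⟨isAffine_of_isAffineHom π, fun t => ?_⟩
  obtain ⟨n, r, hr⟩ := exists_appTop_eq_pow p hπ t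
  exact ⟨Polynomial.X ^ p ^ n - Polynomial.C r,
    Polynomial.monic_X_pow_sub_C _ (pow_ne_zero _ (Fact.out : p.Prime).ne_zero), by
      rw [Polynomial.eval₂_sub, Polynomial.eval₂_X_pow, Polynomial.eval₂_C]
      exact sub_eq_zero.2 hr.symm⟩

/-- The base change of a perfection along a morphism with perfect pullback is a perfection. -/
theorem isPerfection_of_isPullback {Y YP : Scheme.{u}} [FrobSch.IsCharP YP p] {πY : YP ⟶ Y}
    (hY : FrobSch.IsPerfection πY p) {P : Scheme.{u}} [FrobSch.IsCharP P p] {f : X ⟶ Y}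
    {fP : P ⟶ YP} {πP : P ⟶ X} (sq : IsPullback fP πP πY f) (hP : FrobSch.IsPerfect P p) :
    FrobSch.IsPerfection πP p := by
  refine ⟨hP, fun T _ hT => ⟨fun g g' h => sq.hom_ext ?_ h, fun g => ?_⟩⟩
  · refine perfection_hom_ext p hY hT ?_
    simp only [Category.assoc, sq.w]
    simpa using congrArg (· ≫ f) h
  · obtain ⟨k, hk : k ≫ πY = g ≫ f⟩ := (hY.2 T hT).2 (g ≫ f)
    exact ⟨sq.lift k g hk, sq.lift_snd k g hk⟩

theorem isPullback_of_isPerfect {Y YP : Scheme.{u}} [FrobSch.IsCharP YP p] {πY : YP ⟶ Y}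
    (hY : FrobSch.IsPerfection πY p) (hπ : FrobSch.IsPerfection π p) {f : X ⟶ Y}
    {fP : XP ⟶ YP} (w : fP ≫ πY = π ≫ f) [FrobSch.IsCharP (pullback πY f) p]
    (hP : FrobSch.IsPerfect (pullback πY f) p) : IsPullback fP π πY f := by
  have hsq := IsPullback.of_hasPullback πY f
  obtain ⟨e, he⟩ := exists_iso_of_isPerfection p hπ (isPerfection_of_isPullback p hY hsq hP)
  refine hsq.of_iso e.symm (Iso.refl _) (Iso.refl _) (Iso.refl _) ?_ ?_ (by simp) (by simp)
  · simp only [Iso.symm_hom, Iso.refl_hom, Category.comp_id]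
    rw [Iso.eq_inv_comp]
    refine perfection_hom_ext p hY hπ.1 ?_
    rw [Category.assoc, pullback.condition, reassoc_of% he, w]
  · simp only [Iso.symm_hom, Iso.refl_hom, Category.comp_id]
    rw [Iso.eq_inv_comp, he]

/-- The perfection of an open subscheme is its preimage. -/
theorem isPerfection_morphismRestrict (hπ : FrobSch.IsPerfection π p) (U : X.Opens)
    [FrobSch.IsCharP U p] [FrobSch.IsCharP (π ⁻¹ᵁ U) p] :
    FrobSch.IsPerfection (π ∣_ U) p :=
  isPerfection_of_isPullback p hπ (isPullback_morphismRestrict π U).flip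
    (isPerfect_of_isOpenImmersion p (π ⁻¹ᵁ U).ι hπ.1)

theorem isIntegralHom_of_isPerfection (hπ : FrobSch.IsPerfection π p) : IsIntegralHom π := by
  refine IsZariskiLocalAtTarget.of_iSup_eq_top _ (iSup_affineOpens_eq_top X) fun U => ?_
  haveI : IsAffine (U.1 : Scheme.{u}) := U.2
  haveI : FrobSch.IsCharP (U.1 : Scheme.{u}) p := FrobSch.IsCharP.of_hom U.1.ι p
  haveI : FrobSch.IsCharP (π ⁻¹ᵁ U.1 : Scheme.{u}) p := FrobSch.IsCharP.of_hom (π ⁻¹ᵁ U.1).ι p
  exact isIntegralHom_of_isAffine p (isPerfection_morphismRestrict p hπ U.1)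

theorem isUnivHomeo_of_isPerfection (hπ : FrobSch.IsPerfection π p) : FlatMor.IsUnivHomeo π :=
  haveI := isIntegralHom_of_isPerfection p hπ
  haveI := universallyInjective_of_isPerfection p hπ
  haveI := surjective_of_isPerfection p hπ
  Groth.Agent.UnivHomeo.isUnivHomeo_of_integral_univInjective_surjective π

end Properties

end Groth.Agent.PerfSchLib
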