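import Groth.Agent.PerfSchLib.Transfer
import Groth.Agent.H8Lim.ApproxFP
import Groth.Agent.H8Lim.Unramified
import Mathlib.Algebra.CharP.Algebra
import Mathlib.Data.ZMod.Basic
import Mathlib.Algebra.Ring.ULift
import Mathlib.AlgebraicGeometry.Morphisms.FinitePresentation

/-!
# Models of perfectly finitely presented perfect schemes

A qcqs perfect scheme which is compact among perfect schemes is a retract of the perfection of a
finitely presented `𝔽_p`-scheme, hence the perfection of the equalizer of the idempotent with a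
Frobenius power.
-/

set_option autoImplicit false
set_option backward.isDefEq.respectTransparency.types false

universe u

open CategoryTheory CategoryTheory.Limits AlgebraicGeometry Opposite

namespace Groth.Agent.PerfSchLib

variable (p : ℕ) [Fact p.Prime]

/-- The spectrum of the prime field. -/
noncomputable abbrev base : Scheme.{u} := Spec (CommRingCat.of (ULift.{u} (ZMod p)))

omit [Fact p.Prime] in
theorem hom_base_ext {T : Scheme.{u}} (a b : T ⟶ base p) : a = b := by
  apply ext_of_isAffine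
  rw [← cancel_epi (Scheme.ΓSpecIso (CommRingCat.of (ULift.{u} (ZMod p)))).inv]
  ext x
  obtain ⟨y⟩ := x
  obtain ⟨z, rfl⟩ := ZMod.intCast_surjective y
  rw [show (⟨(z : ZMod p)⟩ : ULift.{u} (ZMod p)) = (z : ULift.{u} (ZMod p)) from rfl, map_intCast,
    map_intCast]

omit [Fact p.Prime] in
theorem exists_hom_base (X : Scheme.{u}) [FrobSch.IsCharP X p] : Nonempty (X ⟶ base p) := by
  have h : ringChar Γ(X, ⊤) ∣ p := ringChar.dvd FrobSch.IsCharP.natCast_eq_zero
  exact ⟨X.toSpecΓ ≫ Spec.map (CommRingCat.ofHom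
    ((ZMod.castHom h Γ(X, ⊤)).comp (ULift.ringEquiv.{0, u} (R := ZMod p)).toRingHom))⟩

section

variable {X Y : Scheme.{u}} [FrobSch.IsCharP X p] [FrobSch.IsCharP Y p]

/-- Iterated Frobenii commute with morphisms. -/
theorem fpow_comp (h : X ⟶ Y) : ∀ k, fpow p X k ≫ h = h ≫ fpow p Y k
  | 0 => by simp [fpow]
  | k + 1 => by
    show (fpow p X k ≫ FrobSch.frob X p) ≫ h = h ≫ fpow p Y k ≫ FrobSch.frob Y p
    rw [Category.assoc, FrobSch.frob_comp, ← Category.assoc, fpow_comp h k, Category.assoc]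

omit [FrobSch.IsCharP Y p] in
theorem isIso_fpow (hX : FrobSch.IsPerfect X p) : ∀ k, IsIso (fpow p X k)
  | 0 => inferInstanceAs (IsIso (𝟙 X))
  | k + 1 => by
    haveI := isIso_fpow hX k
    haveI : IsIso (FrobSch.frob X p) := hX
    exact inferInstanceAs (IsIso (fpow p X k ≫ FrobSch.frob X p))

end

/-- A limit of perfect schemes is perfect. -/
theorem isPerfect_of_isLimit {J : Type u} [SmallCategory J] {F : J ⥤ Scheme.{u}}
    [∀ j, FrobSch.IsCharP (F.obj j) p] (c : Cone F) [FrobSch.IsCharP c.pt p] (hc : IsLimit c)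
    (hF : ∀ j, FrobSch.IsPerfect (F.obj j) p) : FrobSch.IsPerfect c.pt p := by
  haveI : ∀ j, IsIso (FrobSch.frob (F.obj j) p) := hF
  let c' : Cone F :=
    { pt := c.pt
      π :=
        { app := fun j => c.π.app j ≫ inv (FrobSch.frob (F.obj j) p)
          naturality := fun i j a => by
            show 𝟙 c.pt ≫ c.π.app j ≫ inv (FrobSch.frob (F.obj j) p) =
              (c.π.app i ≫ inv (FrobSch.frob (F.obj i) p)) ≫ F.map a
            have h : inv (FrobSch.frob (F.obj i) p) ≫ F.map a =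
                F.map a ≫ inv (FrobSch.frob (F.obj j) p) := by
              rw [IsIso.inv_comp_eq, ← Category.assoc, FrobSch.frob_comp, Category.assoc,
                IsIso.hom_inv_id, Category.comp_id]
            rw [Category.id_comp, Category.assoc, h, ← Category.assoc, c.w] } }
  have hg : ∀ j, hc.lift c' ≫ c.π.app j = c.π.app j ≫ inv (FrobSch.frob (F.obj j) p) :=
    fun j => hc.fac c' j
  refine ⟨hc.lift c', hc.hom_ext fun j => ?_, hc.hom_ext fun j => ?_⟩
  · rw [Category.assoc, hg, ← Category.assoc, FrobSch.frob_comp, Category.assoc,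
      IsIso.hom_inv_id, Category.comp_id, Category.id_comp]
  · rw [Category.assoc, FrobSch.frob_comp, reassoc_of% hg, IsIso.inv_hom_id, Category.comp_id,
      Category.id_comp]

/-- A qcqs perfect scheme is a limit of perfections of finitely presented `𝔽_p`-schemes. -/
theorem exists_perfect_system (X : Scheme.{u}) [FrobSch.IsCharP X p] [CompactSpace X]
    [QuasiSeparatedSpace X] (hX : FrobSch.IsPerfect X p) :
    ∃ (J : Type u) (_ : SmallCategory J) (_ : IsCofiltered J) (F : J ⥤ Scheme.{u})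
      (_ : ∀ j, FrobSch.IsCharP (F.obj j) p) (c : Cone F) (_ : IsLimit c) (_ : c.pt = X),
      (∀ ⦃i j : J⦄ (a : i ⟶ j), IsAffineHom (F.map a)) ∧
      (∀ j, FrobSch.IsPerfect (F.obj j) p ∧ CompactSpace (F.obj j) ∧
        QuasiSeparatedSpace (F.obj j)) ∧
      ∀ j, ∃ (Z : Scheme.{u}) (z : Z ⟶ base p) (_ : LocallyOfFinitePresentation z)
        (_ : CompactSpace Z) (_ : QuasiSeparatedSpace Z) (πZ : F.obj j ⟶ Z),
        FrobSch.IsPerfection πZ p := by
  classical
  obtain ⟨s0⟩ := exists_hom_base p X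
  obtain ⟨I, _, _, _, D, c, hc, hfp, haff, hqcqs, ⟨e⟩⟩ :=
    Groth.Agent.H8Lim.exists_limit_finitePresentation s0
  haveI : IsCofiltered Iᵒᵖ := inferInstance
  let Z : Iᵒᵖ → Scheme.{u} := fun i => (D.obj i).left
  haveI hcZ : ∀ i, FrobSch.IsCharP (Z i) p := fun i => FrobSch.IsCharP.of_hom (D.obj i).hom p
  haveI : ∀ i, CompactSpace (Z i) := fun i => (hqcqs i).1
  haveI : ∀ i, QuasiSeparatedSpace (Z i) := fun i => (hqcqs i).2
  choose cn hcn hchar hperf hcaff using fun i => exists_perfection p (Z i)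
  let ZP : Iᵒᵖ → Scheme.{u} := fun i => (cn i).pt
  let π : ∀ i, ZP i ⟶ Z i := fun i => (cn i).π.app (op ⟨0⟩)
  haveI : ∀ i, FrobSch.IsCharP (ZP i) p := hchar
  have hπ : ∀ i, FrobSch.IsPerfection (π i) p := hperf
  have hex : ∀ {i j : Iᵒᵖ} (a : i ⟶ j), ∃ g : ZP i ⟶ ZP j, g ≫ π j = π i ≫ (D.map a).left :=
    fun {i j} a => ((hπ j).2 (ZP i) (hπ i).1).2 (π i ≫ (D.map a).left)
  choose tr htr using @hex
  let F : Iᵒᵖ ⥤ Scheme.{u} :=
    { obj := ZP
      map := fun a => tr a
      map_id := fun i => perfection_hom_ext p (hπ i) (hπ i).1 (by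
        rw [htr, Category.id_comp, D.map_id, Over.id_left, Category.comp_id])
      map_comp := fun {i j k} a b => perfection_hom_ext p (hπ k) (hπ i).1 (by
        rw [htr, Category.assoc, htr, reassoc_of% htr a, D.map_comp, Over.comp_left]) }
  haveI : ∀ j, FrobSch.IsCharP (F.obj j) p := hchar
  have hFaff : ∀ ⦃i j : Iᵒᵖ⦄ (a : i ⟶ j), IsAffineHom (F.map a) := fun i j a =>
    (isAffineHom_iff p (hπ i) (hπ j) (htr a)).1 (haff i j a)
  have hprop : ∀ j, FrobSch.IsPerfect (F.obj j) p ∧ CompactSpace (F.obj j) ∧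
      QuasiSeparatedSpace (F.obj j) := fun j =>
    ⟨(hπ j).1, compactSpace_of_isPerfection p (hπ j), quasiSeparatedSpace_of_isPerfection p (hπ j)⟩
  haveI : ∀ {i j : Iᵒᵖ} (a : i ⟶ j), IsAffineHom (F.map a) := fun a => hFaff a
  obtain ⟨d, hd, -⟩ := Groth.Agent.H8Lim.exists_limit_cone F
  obtain ⟨j₀⟩ := IsCofiltered.nonempty (C := Iᵒᵖ)
  haveI : FrobSch.IsCharP d.pt p := FrobSch.IsCharP.of_hom (Y := F.obj j₀) (d.π.app j₀) p
  have hdperf := isPerfect_of_isLimit p d hd fun j => (hπ j).1
  haveI : IsConnected Iᵒᵖ := IsCofiltered.isConnected _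
  have hc' : IsLimit ((Over.forget (base p)).mapCone c) :=
    isLimitOfPreserves (Over.forget (base p)) hc
  let e' : c.pt.left ≅ X := (Over.forget (base p)).mapIso e
  choose q hq using fun i => ((hπ i).2 X hX).2 (e'.inv ≫ (c.π.app i).left)
  have hq' : ∀ i, q i ≫ π i = e'.inv ≫ (c.π.app i).left := hq
  let cX : Cone F :=
    { pt := X
      π :=
        { app := q
          naturality := fun i j a => by
            show 𝟙 X ≫ q j = q i ≫ tr a
            refine perfection_hom_ext p (hπ j) hX ?_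
            rw [Category.id_comp, hq', Category.assoc, htr, reassoc_of% hq' i, ← Over.comp_left,
              c.w] } }
  let cd : Cone (D ⋙ Over.forget (base p)) :=
    { pt := d.pt
      π :=
        { app := fun i => d.π.app i ≫ π i
          naturality := fun i j a => by
            show 𝟙 d.pt ≫ d.π.app j ≫ π j = (d.π.app i ≫ π i) ≫ (D.map a).left
            rw [Category.id_comp, Category.assoc, ← htr, ← Category.assoc]
            exact congrArg (· ≫ π j) (d.w a).symm } }
  have hu : ∀ i, hd.lift cX ≫ d.π.app i = q i := fun i => hd.fac cX i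
  have hv : ∀ i, hc'.lift cd ≫ (c.π.app i).left = d.π.app i ≫ π i := fun i => hc'.fac cd i
  have h1 : hd.lift cX ≫ hc'.lift cd ≫ e'.hom = 𝟙 X := by
    rw [← cancel_mono e'.inv]
    refine hc'.hom_ext fun i => ?_
    show ((hd.lift cX ≫ hc'.lift cd ≫ e'.hom) ≫ e'.inv) ≫ (c.π.app i).left =
      (𝟙 X ≫ e'.inv) ≫ (c.π.app i).left
    rw [Category.id_comp, ← hq', ← hu i]
    simp only [Category.assoc]
    erw [Iso.hom_inv_id_assoc, hv]
  have h2 : (hc'.lift cd ≫ e'.hom) ≫ hd.lift cX = 𝟙 d.pt := by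
    refine hd.hom_ext fun i => perfection_hom_ext p (hπ i) hdperf ?_
    rw [Category.id_comp]
    simp only [Category.assoc]
    rw [reassoc_of% hu i, hq']
    erw [Iso.hom_inv_id_assoc, hv]
  let i1 : d.pt ≅ X := ⟨hc'.lift cd ≫ e'.hom, hd.lift cX, h2, h1⟩
  exact ⟨Iᵒᵖ, inferInstance, inferInstance, F, inferInstance, cX,
    IsLimit.ofIsoLimit hd (Cones.ext i1 fun i => by
      show d.π.app i = i1.hom ≫ q i
      rw [← hu i, ← Category.assoc]
      show d.π.app i = ((hc'.lift cd ≫ e'.hom) ≫ hd.lift cX) ≫ d.π.app i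
      rw [h2, Category.id_comp]), rfl, hFaff, hprop,
    fun j => ⟨Z j, (D.obj j).hom, (hfp j).1, (hqcqs j).1, (hqcqs j).2, π j, hπ j⟩⟩

/-- An idempotent-split retract of the perfection of a finitely presented scheme has a model. -/
theorem exists_model_of_retract {Z ZP X : Scheme.{u}} (z : Z ⟶ base p)
    [LocallyOfFinitePresentation z] [CompactSpace Z] [QuasiSeparatedSpace Z]
    [FrobSch.IsCharP Z p] [FrobSch.IsCharP ZP p] [FrobSch.IsCharP X p] (hX : FrobSch.IsPerfect X p)
    {πZ : ZP ⟶ Z} (hπ : FrobSch.IsPerfection πZ p) (q : X ⟶ ZP) (g : ZP ⟶ X) (hqg : q ≫ g = 𝟙 X) :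
    ∃ (X0 : Scheme.{u}) (s : X0 ⟶ base p) (_ : LocallyOfFinitePresentation s)
      (_ : CompactSpace X0) (_ : QuasiSeparatedSpace X0) (π : X ⟶ X0),
      FrobSch.IsPerfection π p := by
  obtain ⟨c, hc, e, he, -⟩ := exists_limit_cone_of_isPerfection p hπ
  let t : tower p Z ⟶ (Functor.const (ULift.{u} ℕ)ᵒᵖ).obj (base p) :=
    { app := fun _ => z, naturality := fun _ _ _ => hom_base_ext p _ _ }
  haveI : ∀ i, CompactSpace ((tower p Z).obj i) := fun _ => inferInstanceAs (CompactSpace Z)
  haveI : ∀ i, QuasiSeparatedSpace ((tower p Z).obj i) := fun _ =>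
    inferInstanceAs (QuasiSeparatedSpace Z)
  obtain ⟨i, ε, hε, -⟩ := Scheme.exists_π_app_comp_eq_of_locallyOfFinitePresentation
    (tower p Z) t z c hc (e.inv ≫ g ≫ q ≫ πZ) (by ext j; exact hom_base_ext p _ _)
  let n := i.unop.down
  let πn : ZP ⟶ Z := e.hom ≫ c.π.app i
  have hn : πn ≫ fpow p Z n = πZ := by
    rw [← he]
    show (e.hom ≫ c.π.app i) ≫ fpow p Z n = _
    rw [Category.assoc]
    congr 1
    exact c.w (homOfLE (show (⟨0⟩ : ULift.{u} ℕ) ≤ i.unop from Nat.zero_le _)).op
  have hεn : πn ≫ ε = g ≫ q ≫ πZ := by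
    show (e.hom ≫ c.π.app i) ≫ ε = _
    erw [Category.assoc, hε, Iso.hom_inv_id_assoc]
  let fe : Z ⟶ pullback z z := pullback.lift ε (fpow p Z n) (hom_base_ext p _ _)
  let X0 := pullback (pullback.diagonal z) fe
  let ι : X0 ⟶ Z := pullback.snd (pullback.diagonal z) fe
  have hι : ι ≫ ε = ι ≫ fpow p Z n := by
    have h := pullback.condition (f := pullback.diagonal z) (g := fe)
    have h1 := congrArg (· ≫ pullback.fst z z) h
    have h2 := congrArg (· ≫ pullback.snd z z) h
    simp only [Category.assoc, pullback.diagonal_fst, pullback.diagonal_snd, fe,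
      pullback.lift_fst, pullback.lift_snd] at h1 h2
    exact h1.symm.trans h2
  haveI : QuasiSeparated z := inferInstance
  haveI : QuasiCompact ι := MorphismProperty.pullback_snd _ _ inferInstance
  haveI : IsImmersion ι := MorphismProperty.pullback_snd _ _ inferInstance
  haveI : LocallyOfFinitePresentation ι :=
    MorphismProperty.pullback_snd _ _ (Groth.Agent.H8Lim.locallyOfFinitePresentation_diagonal z)
  haveI : Mono ι := inferInstance
  have hcomm : ∀ {T : Scheme.{u}} [FrobSch.IsCharP T p] (_ : FrobSch.IsPerfect T p)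
      (a : T ⟶ ZP), fpow p T n ≫ a ≫ πn = a ≫ πZ := fun {T} _ hT a => by
    rw [fpow_comp p (a ≫ πn) n, Category.assoc, hn]
  have hqε : (q ≫ πZ) ≫ ε = (q ≫ πZ) ≫ fpow p Z n := by
    haveI := isIso_fpow p hX n
    have hqq : q ≫ πn ≫ ε = q ≫ πZ := by rw [hεn, reassoc_of% hqg]
    rw [← fpow_comp p (q ≫ πZ) n, ← hcomm hX q]
    simp only [Category.assoc, hqq]
    rw [hcomm hX q]
  let π : X ⟶ X0 := pullback.lift (q ≫ πZ ≫ ε) (q ≫ πZ) (by
    apply pullback.hom_ext
    · simp only [Category.assoc, pullback.diagonal_fst, Category.comp_id, fe]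
      erw [pullback.lift_fst]
    · simp only [Category.assoc, pullback.diagonal_snd, Category.comp_id, fe]
      erw [pullback.lift_snd]
      simpa using hqε)
  have hπι : π ≫ ι = q ≫ πZ := pullback.lift_snd _ _ _
  refine ⟨X0, ι ≫ z, inferInstance, QuasiCompact.compactSpace_of_compactSpace ι,
    quasiSeparatedSpace_of_quasiSeparated ι, π, hX, fun T _ hT => ⟨fun a b hab => ?_, fun h => ?_⟩⟩
  · have h' : a ≫ q = b ≫ q := perfection_hom_ext p hπ hT (by
      simp only [Category.assoc, ← hπι]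
      exact congrArg (· ≫ ι) hab |>.trans (Category.assoc _ _ _) |> (Category.assoc _ _ _).symm.trans)
    simpa [Category.assoc, hqg] using congrArg (· ≫ g) h'
  · obtain ⟨a, ha : a ≫ πZ = h ≫ ι⟩ := (hπ.2 T hT).2 (h ≫ ι)
    haveI := isIso_fpow p hT n
    refine ⟨a ≫ g, (cancel_mono ι).1 ?_⟩
    rw [Category.assoc, hπι, Category.assoc, ← hεn, ← cancel_epi (fpow p T n)]
    rw [← Category.assoc a, ← Category.assoc (fpow p T n), hcomm hT a, ha, Category.assoc, hι,
      fpow_comp p (h ≫ ι) n, Category.assoc]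

end Groth.Agent.PerfSchLib
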