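import Groth.Agent.PerfSchLib.Basic
import Groth.Agent.FEtLib.Section
import Mathlib.RingTheory.Flat.EquationalCriterion
import Mathlib.AlgebraicGeometry.Morphisms.Proper
import Mathlib.AlgebraicGeometry.Morphisms.Immersion

/-!
# Properties of morphisms and of their perfections
-/

set_option autoImplicit false

universe u

open CategoryTheory CategoryTheory.Limits AlgebraicGeometry Opposite

namespace Groth.Agent.PerfSchLib

variable (p : ℕ) [Fact p.Prime]

/-- A scheme étale over a perfect scheme is perfect. -/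
theorem isPerfect_of_etale {X S : Scheme.{u}} [FrobSch.IsCharP X p] [FrobSch.IsCharP S p]
    (f : X ⟶ S) [Etale f] (hS : FrobSch.IsPerfect S p) : FrobSch.IsPerfect X p := by
  haveI : IsIso (FrobSch.frob S p) := hS
  obtain ⟨huh, _, -⟩ := Groth.Agent.S14930.result p f
  haveI : Etale (FrobSch.relFrob f p ≫ pullback.snd f (FrobSch.frob S p)) := by
    rw [FrobSch.relFrob_snd]; infer_instance
  haveI : Etale (pullback.snd f (FrobSch.frob S p)) :=
    MorphismProperty.pullback_snd _ _ inferInstance
  haveI : Etale (FrobSch.relFrob f p) :=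
    Etale.of_comp (FrobSch.relFrob f p) (pullback.snd f (FrobSch.frob S p))
  haveI := Groth.Agent.UnivHomeo.universallyInjective_of_isUnivHomeo huh
  haveI := Groth.Agent.UnivHomeo.surjective_of_isUnivHomeo huh
  haveI := Groth.Agent.FEtLib.isOpenImmersion_of_etale_universallyInjective (FrobSch.relFrob f p)
  haveI : IsIso (FrobSch.relFrob f p) :=
    (isIso_iff_isOpenImmersion_and_epi_base _).2
      ⟨inferInstance, (TopCat.epi_iff_surjective _).2 (FrobSch.relFrob f p).surjective⟩
  show IsIso (FrobSch.frob X p)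
  rw [← FrobSch.relFrob_fst f p]
  infer_instance

/-- A qcqs scheme with affine perfection is affine. -/
theorem isAffine_of_isPerfection {X XP : Scheme.{u}} [FrobSch.IsCharP X p]
    [FrobSch.IsCharP XP p] {π : XP ⟶ X} (hπ : FrobSch.IsPerfection π p) [CompactSpace X]
    [QuasiSeparatedSpace X] [IsAffine XP] : IsAffine X := by
  obtain ⟨c, hc, e, he, haff⟩ := exists_limit_cone_of_isPerfection p hπ
  haveI : ∀ i, CompactSpace ((tower p X).obj i) := fun _ => inferInstanceAs (CompactSpace X)
  haveI : ∀ i, QuasiSeparatedSpace ((tower p X).obj i) := fun _ =>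
    inferInstanceAs (QuasiSeparatedSpace X)
  haveI : IsAffine c.pt := IsAffine.of_isIso e.inv
  obtain ⟨i, hi⟩ := Scheme.exists_isAffine_of_isLimit (tower p X) c hc
  exact hi

theorem universallyClosed_of_surjective_comp {A B C : Scheme.{u}} (a : A ⟶ B) (b : B ⟶ C)
    [Surjective a] [UniversallyClosed (a ≫ b)] : UniversallyClosed b :=
  UniversallyClosed.of_comp_surjective a b

theorem quasiCompact_of_surjective_comp {A B C : Scheme.{u}} (a : A ⟶ B) (b : B ⟶ C)
    [Surjective a] [QuasiCompact (a ≫ b)] : QuasiCompact b := by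
  refine ⟨fun U hU hU' => ?_⟩
  have h := (QuasiCompact.isCompact_preimage (f := a ≫ b) U hU hU').image a.continuous
  rwa [Scheme.Hom.comp_base, TopCat.coe_comp, Set.preimage_comp,
    Set.image_preimage_eq _ a.surjective] at h

section

variable {X Y XP YP : Scheme.{u}} [FrobSch.IsCharP X p] [FrobSch.IsCharP Y p]
    [FrobSch.IsCharP XP p] [FrobSch.IsCharP YP p] {πX : XP ⟶ X} {πY : YP ⟶ Y}
    (hX : FrobSch.IsPerfection πX p) (hY : FrobSch.IsPerfection πY p)
    {f : X ⟶ Y} {fP : XP ⟶ YP} (w : fP ≫ πY = πX ≫ f)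

include hX hY w

theorem quasiCompact_iff : QuasiCompact f ↔ QuasiCompact fP := by
  haveI := isAffineHom_of_isPerfection p hX
  haveI := isAffineHom_of_isPerfection p hY
  haveI := surjective_of_isPerfection p hX
  constructor
  · intro h
    haveI : QuasiCompact (fP ≫ πY) := by rw [w]; infer_instance
    exact QuasiCompact.of_comp fP πY
  · intro h
    haveI : QuasiCompact (πX ≫ f) := by rw [← w]; infer_instance
    exact quasiCompact_of_surjective_comp πX f

theorem quasiSeparated_iff : QuasiSeparated f ↔ QuasiSeparated fP := by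
  haveI := isAffineHom_of_isPerfection p hX
  haveI := isAffineHom_of_isPerfection p hY
  haveI := surjective_of_isPerfection p hX
  constructor
  · intro h
    haveI : QuasiSeparated (fP ≫ πY) := by rw [w]; infer_instance
    exact QuasiSeparated.of_comp fP πY
  · intro h
    haveI : QuasiSeparated (πX ≫ f) := by rw [← w]; infer_instance
    refine ⟨?_⟩
    haveI : QuasiCompact (πX ≫ pullback.diagonal f) := by
      have : πX ≫ pullback.diagonal f = pullback.diagonal (πX ≫ f) ≫
          pullback.map (πX ≫ f) (πX ≫ f) f f πX πX (𝟙 Y) (Category.comp_id _)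
            (Category.comp_id _) := by
        refine pullback.hom_ext ?_ ?_
        · rw [Category.assoc, Category.assoc, pullback.diagonal_fst, Category.comp_id]
          erw [pullback.lift_fst]
          rw [← Category.assoc, pullback.diagonal_fst, Category.id_comp]
        · rw [Category.assoc, Category.assoc, pullback.diagonal_snd, Category.comp_id]
          erw [pullback.lift_snd]
          rw [← Category.assoc, pullback.diagonal_snd, Category.id_comp]
      rw [this]
      exact MorphismProperty.comp_mem _ _ _ inferInstance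
        (MorphismProperty.pullbackMap (P := @QuasiCompact) inferInstance inferInstance rfl rfl)
    exact quasiCompact_of_surjective_comp πX (pullback.diagonal f)

theorem isSeparated_iff : IsSeparated f ↔ IsSeparated fP := by
  haveI := isAffineHom_of_isPerfection p hX
  haveI := isAffineHom_of_isPerfection p hY
  haveI := isIntegralHom_of_isPerfection p hX
  haveI := surjective_of_isPerfection p hX
  constructor
  · intro h
    haveI : IsSeparated (fP ≫ πY) := by rw [w]; infer_instance
    exact IsSeparated.of_comp fP πY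
  · intro h
    haveI : IsSeparated (πX ≫ f) := by rw [← w]; infer_instance
    haveI : UniversallyClosed (πX ≫ pullback.diagonal f) := by
      have : πX ≫ pullback.diagonal f = pullback.diagonal (πX ≫ f) ≫
          pullback.map (πX ≫ f) (πX ≫ f) f f πX πX (𝟙 Y) (Category.comp_id _)
            (Category.comp_id _) := by
        refine pullback.hom_ext ?_ ?_
        · rw [Category.assoc, Category.assoc, pullback.diagonal_fst, Category.comp_id]
          erw [pullback.lift_fst]
          rw [← Category.assoc, pullback.diagonal_fst, Category.id_comp]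
        · rw [Category.assoc, Category.assoc, pullback.diagonal_snd, Category.comp_id]
          erw [pullback.lift_snd]
          rw [← Category.assoc, pullback.diagonal_snd, Category.id_comp]
      rw [this]
      exact MorphismProperty.comp_mem _ _ _ inferInstance
        (MorphismProperty.pullbackMap (P := @UniversallyClosed) inferInstance inferInstance rfl rfl)
    haveI := universallyClosed_of_surjective_comp πX (pullback.diagonal f)
    exact ⟨IsClosedImmersion.of_isPreimmersion _
      (pullback.diagonal f).isClosedMap.isClosed_range⟩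

theorem universallyClosed_iff : UniversallyClosed f ↔ UniversallyClosed fP := by
  haveI := isAffineHom_of_isPerfection p hY
  haveI := isIntegralHom_of_isPerfection p hX
  haveI := isIntegralHom_of_isPerfection p hY
  haveI := surjective_of_isPerfection p hX
  constructor
  · intro h
    haveI : UniversallyClosed (fP ≫ πY) := by rw [w]; infer_instance
    exact MorphismProperty.of_postcomp @UniversallyClosed (W' := @IsSeparated) fP πY inferInstance inferInstance
  · intro h
    haveI : UniversallyClosed (πX ≫ f) := by rw [← w]; infer_instance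
    exact universallyClosed_of_surjective_comp πX f

theorem universallyInjective_of_perfection [UniversallyInjective fP] :
    UniversallyInjective f := by
  refine ((tfae_universallyInjective f).out 0 1 rfl rfl).2 fun K _ g g' h => ?_
  obtain ⟨L, _, φ, hφ, _, _, hL⟩ := exists_perfect_extension p (X := X) K g
  obtain ⟨a, ha : a ≫ πX = φ ≫ g⟩ := (hX.2 _ hL).2 (φ ≫ g)
  obtain ⟨b, hb : b ≫ πX = φ ≫ g'⟩ := (hX.2 _ hL).2 (φ ≫ g')
  have hab : a ≫ fP = b ≫ fP := perfection_hom_ext p hY hL (by
    simp only [Category.assoc, w]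
    rw [reassoc_of% ha, reassoc_of% hb]
    exact congrArg (φ ≫ ·) h)
  have := ((tfae_universallyInjective fP).out 0 1 rfl rfl).1 inferInstance L hab
  rw [← cancel_epi φ, ← ha, ← hb, this]

theorem isUnivHomeo_iff : FlatMor.IsUnivHomeo f ↔ FlatMor.IsUnivHomeo fP := by
  haveI := isAffineHom_of_isPerfection p hY
  haveI := isIntegralHom_of_isPerfection p hX
  haveI := isIntegralHom_of_isPerfection p hY
  haveI := universallyInjective_of_isPerfection p hX
  haveI := universallyInjective_of_isPerfection p hY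
  haveI := surjective_of_isPerfection p hX
  haveI := surjective_of_isPerfection p hY
  have key : ∀ {A B : Scheme.{u}} (g : A ⟶ B) [UniversallyClosed g] [UniversallyInjective g]
      [Surjective g], FlatMor.IsUnivHomeo g := by
    intro A B g h1 h2 h3 A' B' i₁ i₂ g' h
    have h1' : UniversallyClosed g' := MorphismProperty.of_isPullback h.flip h1
    have h2' : UniversallyInjective g' := MorphismProperty.of_isPullback h.flip h2
    have h3' : Surjective g' := MorphismProperty.of_isPullback h.flip h3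
    exact isHomeomorph_iff_continuous_isClosedMap_bijective.mpr
      ⟨g'.continuous, g'.isClosedMap, g'.injective, g'.surjective⟩
  constructor
  · intro h
    haveI := Groth.Agent.UnivHomeo.universallyClosed_of_isUnivHomeo h
    haveI := Groth.Agent.UnivHomeo.universallyInjective_of_isUnivHomeo h
    haveI := Groth.Agent.UnivHomeo.surjective_of_isUnivHomeo h
    haveI : UniversallyClosed fP := (universallyClosed_iff p hX hY w).1 inferInstance
    have hc : UniversallyInjective (fP ≫ πY) := by
      rw [w]; exact MorphismProperty.comp_mem _ _ _ ‹_› ‹_›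
    haveI : UniversallyInjective fP := by
      refine ((tfae_universallyInjective fP).out 0 1 rfl rfl).2 fun K _ g g' hgg => ?_
      refine ((tfae_universallyInjective (fP ≫ πY)).out 0 1 rfl rfl).1 hc K ?_
      exact (Category.assoc _ _ _).symm.trans
        ((congrArg (· ≫ πY) hgg).trans (Category.assoc _ _ _))
    haveI : Surjective fP := by
      refine ⟨fun y => ?_⟩
      obtain ⟨x, hx⟩ := (πX ≫ f).surjective (πY y)
      refine ⟨x, πY.injective ?_⟩
      rw [← Scheme.Hom.comp_apply, w, hx]
    exact key fP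
  · intro h
    haveI := Groth.Agent.UnivHomeo.universallyClosed_of_isUnivHomeo h
    haveI := Groth.Agent.UnivHomeo.universallyInjective_of_isUnivHomeo h
    haveI := Groth.Agent.UnivHomeo.surjective_of_isUnivHomeo h
    haveI : UniversallyClosed f := (universallyClosed_iff p hX hY w).2 inferInstance
    haveI : UniversallyInjective f := universallyInjective_of_perfection p hX hY w
    haveI : Surjective f := by
      haveI : Surjective (πX ≫ f) := by rw [← w]; infer_instance
      exact Surjective.of_comp πX f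
    exact key f

theorem isPullback_of_etale [Etale f] : IsPullback fP πX πY f := by
  haveI : FrobSch.IsCharP (pullback πY f) p := FrobSch.IsCharP.of_hom (pullback.fst πY f) p
  haveI : Etale (pullback.fst πY f) := MorphismProperty.pullback_fst _ _ inferInstance
  exact isPullback_of_isPerfect p hY hX w (isPerfect_of_etale p (pullback.fst πY f) hY.1)

/-- The restriction of the square over an open of `Y`. -/
theorem exists_restrict (V : Y.Opens) :
    ∃ (g : ↑(fP ⁻¹ᵁ (πY ⁻¹ᵁ V)) ⟶ ↑(f ⁻¹ᵁ V))
      (_ : FrobSch.IsCharP (fP ⁻¹ᵁ (πY ⁻¹ᵁ V) : Scheme.{u}) p),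
      FrobSch.IsPerfection g p ∧ (fP ∣_ (πY ⁻¹ᵁ V)) ≫ (πY ∣_ V) = g ≫ (f ∣_ V) := by
  have e : fP ⁻¹ᵁ (πY ⁻¹ᵁ V) = πX ⁻¹ᵁ (f ⁻¹ᵁ V) := by
    rw [← Scheme.Hom.comp_preimage, w, Scheme.Hom.comp_preimage]
  have key : ∀ W : XP.Opens, W = πX ⁻¹ᵁ (f ⁻¹ᵁ V) →
      ∀ (hW : W ≤ πX ⁻¹ᵁ (f ⁻¹ᵁ V)) [FrobSch.IsCharP (W : Scheme.{u}) p],
        FrobSch.IsPerfection (πX.resLE (f ⁻¹ᵁ V) W hW) p := by
    rintro W rfl hW _
    haveI : FrobSch.IsCharP (f ⁻¹ᵁ V : Scheme.{u}) p := FrobSch.IsCharP.of_hom (f ⁻¹ᵁ V).ι p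
    rw [Scheme.Hom.resLE_eq_morphismRestrict]
    exact isPerfection_morphismRestrict p hX _
  haveI hchar : FrobSch.IsCharP (fP ⁻¹ᵁ (πY ⁻¹ᵁ V) : Scheme.{u}) p :=
    FrobSch.IsCharP.of_hom (fP ⁻¹ᵁ (πY ⁻¹ᵁ V)).ι p
  refine ⟨πX.resLE _ _ e.le, hchar, key _ e e.le, ?_⟩
  rw [← cancel_mono V.ι]
  simp only [Category.assoc, morphismRestrict_ι, morphismRestrict_ι_assoc, w,
    Scheme.Hom.resLE_comp_ι_assoc]

end

section

variable {X : Scheme.{u}} [FrobSch.IsCharP X p]

/-- Iterated `p`-th powers are bijective on the global sections of a perfect scheme. -/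
theorem bijective_pow_pow (hX : FrobSch.IsPerfect X p) (n : ℕ) :
    Function.Bijective (fun s : Γ(X, ⊤) => s ^ p ^ n) := by
  induction n with
  | zero => exact ⟨fun a b h => by simpa using h, fun a => ⟨a, by simp⟩⟩
  | succ n ih =>
    simp only [pow_succ, pow_mul]
    exact (surjective_pow_of_isPerfect p hX).comp ih

end

section

variable {X Y XP YP : Scheme.{u}} [FrobSch.IsCharP X p] [FrobSch.IsCharP Y p]
    [FrobSch.IsCharP XP p] [FrobSch.IsCharP YP p] {πX : XP ⟶ X} {πY : YP ⟶ Y}
    (hX : FrobSch.IsPerfection πX p) (hY : FrobSch.IsPerfection πY p)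
    {f : X ⟶ Y} {fP : XP ⟶ YP} (w : fP ≫ πY = πX ≫ f)

include hX hY w

theorem appTop_comm (a : Γ(Y, ⊤)) :
    fP.appTop (πY.appTop a) = πX.appTop (f.appTop a) := by
  rw [← CommRingCat.comp_apply, ← Scheme.Hom.comp_appTop, w, Scheme.Hom.comp_appTop]
  rfl

theorem isAffineHom_iff : IsAffineHom f ↔ IsAffineHom fP := by
  haveI := isAffineHom_of_isPerfection p hX
  haveI := isAffineHom_of_isPerfection p hY
  constructor
  · intro h
    haveI : IsAffineHom (fP ≫ πY) := by rw [w]; infer_instance
    exact IsAffineHom.of_comp fP πY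
  · intro h
    haveI : QuasiCompact f := (quasiCompact_iff p hX hY w).2 inferInstance
    haveI : QuasiSeparated f := (quasiSeparated_iff p hX hY w).2 inferInstance
    refine ⟨fun V hV => ?_⟩
    obtain ⟨g, _, hg, -⟩ := exists_restrict p hX hY w V
    haveI : FrobSch.IsCharP (f ⁻¹ᵁ V : Scheme.{u}) p := FrobSch.IsCharP.of_hom (f ⁻¹ᵁ V).ι p
    haveI : IsAffine (fP ⁻¹ᵁ (πY ⁻¹ᵁ V) : Scheme.{u}) := (hV.preimage πY).preimage fP
    haveI : CompactSpace (f ⁻¹ᵁ V : Scheme.{u}) :=
      isCompact_iff_compactSpace.mp (f.isCompact_preimage hV.isCompact)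
    haveI : IsAffine (V : Scheme.{u}) := hV
    haveI : QuasiSeparatedSpace (f ⁻¹ᵁ V : Scheme.{u}) :=
      quasiSeparatedSpace_of_quasiSeparated (f ∣_ V)
    exact isAffine_of_isPerfection p hg

theorem isOpenImmersion_perfection [IsOpenImmersion f] : IsOpenImmersion fP :=
  MorphismProperty.of_isPullback (isPullback_of_etale p hX hY w).flip inferInstance

theorem isClosedImmersion_perfection_of_isAffine [IsAffine Y] [IsClosedImmersion f] :
    IsClosedImmersion fP := by
  haveI := isAffineHom_of_isPerfection p hX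
  haveI := isAffineHom_of_isPerfection p hY
  haveI : IsAffine X := isAffine_of_isAffineHom f
  haveI : IsAffine XP := isAffine_of_isAffineHom πX
  haveI : IsAffine YP := isAffine_of_isAffineHom πY
  refine IsClosedImmersion.of_surjective_of_isAffine fP fun t => ?_
  obtain ⟨n, r, hr⟩ := exists_appTop_eq_pow p hX t
  obtain ⟨r', rfl⟩ := (IsClosedImmersion.isAffine_surjective_of_isAffine f).2 r
  obtain ⟨v, hv⟩ := (bijective_pow_pow p hY.1 n).2 (πY.appTop r')
  refine ⟨v, (bijective_pow_pow p hX.1 n).1 ?_⟩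
  show fP.appTop v ^ p ^ n = t ^ p ^ n
  rw [← map_pow, show v ^ p ^ n = πY.appTop r' from hv, appTop_comm p hX hY w, hr]

theorem flat_perfection_of_isAffine [IsAffine Y] [IsAffine X] [Flat f] : Flat fP := by
  haveI := isAffineHom_of_isPerfection p hX
  haveI := isAffineHom_of_isPerfection p hY
  haveI : IsAffine XP := isAffine_of_isAffineHom πX
  haveI : IsAffine YP := isAffine_of_isAffineHom πY
  have hf : f.appTop.hom.Flat :=
    (HasRingHomProperty.iff_of_isAffine (P := @Flat)).1 inferInstance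
  rw [HasRingHomProperty.iff_of_isAffine (P := @Flat)]
  letI := f.appTop.hom.toAlgebra
  letI := fP.appTop.hom.toAlgebra
  haveI : Module.Flat Γ(Y, ⊤) Γ(X, ⊤) := hf
  show Module.Flat Γ(YP, ⊤) Γ(XP, ⊤)
  refine Module.Flat.iff_forall_isTrivialRelation.2 fun {l} {a} {s} has => ?_
  simp only [Algebra.smul_def, RingHom.algebraMap_toAlgebra] at has
  change ∑ i, fP.appTop (a i) * s i = 0 at has
  choose na α hα using fun i => exists_appTop_eq_pow p hY (a i)
  choose ns r hr using fun i => exists_appTop_eq_pow p hX (s i)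
  obtain ⟨N, hN⟩ : ∃ N, ∀ i, na i ≤ N ∧ ns i ≤ N :=
    ⟨∑ i, (na i + ns i), fun i => ⟨le_trans (Nat.le_add_right _ _)
      (Finset.single_le_sum (fun j _ => Nat.zero_le (na j + ns j)) (Finset.mem_univ i)),
      le_trans (Nat.le_add_left _ _)
      (Finset.single_le_sum (fun j _ => Nat.zero_le (na j + ns j)) (Finset.mem_univ i))⟩⟩
  let α' := fun i => α i ^ p ^ (N - na i)
  let r' := fun i => r i ^ p ^ (N - ns i)
  have hα' : ∀ i, πY.appTop (α' i) = a i ^ p ^ N := fun i => by
    simp only [α', map_pow, hα, ← pow_mul, ← pow_add, Nat.add_sub_cancel' (hN i).1]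
  have hr' : ∀ i, πX.appTop (r' i) = s i ^ p ^ N := fun i => by
    simp only [r', map_pow, hr, ← pow_mul, ← pow_add, Nat.add_sub_cancel' (hN i).2]
  have hpow : ∀ {Z : Scheme.{u}} [FrobSch.IsCharP Z p] (k : ℕ) (g : Fin l → Γ(Z, ⊤)),
      (∑ i, g i) ^ p ^ k = ∑ i, g i ^ p ^ k := fun {Z} _ k g => by
    rcases subsingleton_or_nontrivial Γ(Z, ⊤) with hs | hs
    · exact Subsingleton.elim _ _
    · haveI : CharP Γ(Z, ⊤) p :=
        (CharP.charP_iff_prime_eq_zero Fact.out).2 FrobSch.IsCharP.natCast_eq_zero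
      exact sum_pow_char_pow p k _ g
  have h0 : πX.appTop (∑ i, f.appTop (α' i) * r' i) = 0 := by
    simp only [map_sum, map_mul, ← appTop_comm p hX hY w, hα', hr', map_pow, ← mul_pow]
    rw [← hpow, has, zero_pow (pow_ne_zero _ (Fact.out : p.Prime).ne_zero)]
  obtain ⟨m, hm⟩ := exists_pow_eq_zero p hX _ h0
  rw [hpow] at hm
  simp only [mul_pow, ← map_pow] at hm
  obtain ⟨k, c, y, hy, hc⟩ := Module.Flat.isTrivialRelation_of_sum_smul_eq_zero
    (R := Γ(Y, ⊤)) (M := Γ(X, ⊤)) (ι := Fin l) (f := fun i => α' i ^ p ^ m)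
    (x := fun i => r' i ^ p ^ m) (by simpa [Algebra.smul_def, RingHom.algebraMap_toAlgebra] using hm)
  simp only [Algebra.smul_def, RingHom.algebraMap_toAlgebra] at hy
  choose c' hc' using fun i j => (bijective_pow_pow p hY.1 (N + m)).2 (πY.appTop (c i j))
  choose y' hy' using fun j => (bijective_pow_pow p hX.1 (N + m)).2 (πX.appTop (y j))
  refine ⟨k, c', y', fun i => (bijective_pow_pow p hX.1 (N + m)).1 ?_, fun j =>
    (bijective_pow_pow p hY.1 (N + m)).1 ?_⟩
  · simp only [Algebra.smul_def, RingHom.algebraMap_toAlgebra]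
    show s i ^ p ^ (N + m) = (∑ j, fP.appTop (c' i j) * y' j) ^ p ^ (N + m)
    have hsum : (∑ j, fP.appTop (c' i j) * y' j) ^ p ^ (N + m)
        = ∑ j, fP.appTop (c' i j ^ p ^ (N + m)) * y' j ^ p ^ (N + m) := by
      rcases subsingleton_or_nontrivial Γ(XP, ⊤) with hs | hs
      · exact Subsingleton.elim _ _
      · haveI : CharP Γ(XP, ⊤) p :=
          (CharP.charP_iff_prime_eq_zero Fact.out).2 FrobSch.IsCharP.natCast_eq_zero
        rw [sum_pow_char_pow]
        simp [mul_pow]
    rw [hsum]
    simp only [hc', hy', appTop_comm p hX hY w, ← map_mul, ← map_sum]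
    rw [pow_add, pow_mul, ← hr', ← map_pow]
    exact congrArg _ (hy i)
  · show (∑ i, a i * c' i j) ^ p ^ (N + m) = 0 ^ p ^ (N + m)
    rw [zero_pow (pow_ne_zero _ (Fact.out : p.Prime).ne_zero), hpow]
    simp only [mul_pow, hc']
    simp only [pow_add, pow_mul, ← hα', ← map_pow, ← map_mul, ← map_sum, hc j, map_zero]

end

section

variable {X Y XP YP : Scheme.{u}} [FrobSch.IsCharP X p] [FrobSch.IsCharP Y p]
    [FrobSch.IsCharP XP p] [FrobSch.IsCharP YP p] {πX : XP ⟶ X} {πY : YP ⟶ Y}
    (hX : FrobSch.IsPerfection πX p) (hY : FrobSch.IsPerfection πY p)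
    {f : X ⟶ Y} {fP : XP ⟶ YP} (w : fP ≫ πY = πX ≫ f)

include hX hY w

theorem isClosedImmersion_perfection [IsClosedImmersion f] : IsClosedImmersion fP := by
  refine IsZariskiLocalAtTarget.of_iSup_eq_top (fun V : Y.affineOpens => πY ⁻¹ᵁ V.1)
    (by rw [← Scheme.Hom.preimage_iSup, iSup_affineOpens_eq_top, Scheme.Hom.preimage_top])
    fun V => ?_
  obtain ⟨g, _, hg, hw⟩ := exists_restrict p hX hY w V.1
  haveI : FrobSch.IsCharP (V.1 : Scheme.{u}) p := FrobSch.IsCharP.of_hom V.1.ι p
  haveI : FrobSch.IsCharP (f ⁻¹ᵁ V.1 : Scheme.{u}) p := FrobSch.IsCharP.of_hom (f ⁻¹ᵁ V.1).ι p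
  haveI : FrobSch.IsCharP (πY ⁻¹ᵁ V.1 : Scheme.{u}) p := FrobSch.IsCharP.of_hom (πY ⁻¹ᵁ V.1).ι p
  haveI : IsAffine (V.1 : Scheme.{u}) := V.2
  haveI : IsClosedImmersion (f ∣_ V.1) :=
    IsZariskiLocalAtTarget.restrict (P := @IsClosedImmersion) inferInstance V.1
  exact isClosedImmersion_perfection_of_isAffine p hg (isPerfection_morphismRestrict p hY V.1) hw

theorem flat_perfection [Flat f] : Flat fP := by
  refine IsZariskiLocalAtTarget.of_iSup_eq_top (fun V : Y.affineOpens => πY ⁻¹ᵁ V.1)
    (by rw [← Scheme.Hom.preimage_iSup, iSup_affineOpens_eq_top, Scheme.Hom.preimage_top])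
    fun V => ?_
  obtain ⟨g, _, hg, hw⟩ := exists_restrict p hX hY w V.1
  haveI : FrobSch.IsCharP (V.1 : Scheme.{u}) p := FrobSch.IsCharP.of_hom V.1.ι p
  haveI : FrobSch.IsCharP (f ⁻¹ᵁ V.1 : Scheme.{u}) p := FrobSch.IsCharP.of_hom (f ⁻¹ᵁ V.1).ι p
  haveI : FrobSch.IsCharP (πY ⁻¹ᵁ V.1 : Scheme.{u}) p := FrobSch.IsCharP.of_hom (πY ⁻¹ᵁ V.1).ι p
  haveI : IsAffine (V.1 : Scheme.{u}) := V.2
  haveI : Flat (f ∣_ V.1) := IsZariskiLocalAtTarget.restrict (P := @Flat) inferInstance V.1
  refine IsZariskiLocalAtSource.of_iSup_eq_top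
    (fun U : (f ⁻¹ᵁ V.1 : Scheme.{u}).affineOpens => g ⁻¹ᵁ U.1)
    (by rw [← Scheme.Hom.preimage_iSup, iSup_affineOpens_eq_top, Scheme.Hom.preimage_top])
    fun U => ?_
  haveI : FrobSch.IsCharP (U.1 : Scheme.{u}) p := FrobSch.IsCharP.of_hom U.1.ι p
  haveI : FrobSch.IsCharP (g ⁻¹ᵁ U.1 : Scheme.{u}) p := FrobSch.IsCharP.of_hom (g ⁻¹ᵁ U.1).ι p
  haveI : IsAffine (U.1 : Scheme.{u}) := U.2
  exact flat_perfection_of_isAffine p (isPerfection_morphismRestrict p hg U.1)
    (isPerfection_morphismRestrict p hY V.1) (f := U.1.ι ≫ (f ∣_ V.1))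
    (by rw [Category.assoc, hw, morphismRestrict_ι_assoc])

theorem isImmersion_perfection [IsImmersion f] : IsImmersion fP := by
  let U := f.coborderRange
  haveI : FrobSch.IsCharP (U : Scheme.{u}) p := FrobSch.IsCharP.of_hom U.ι p
  haveI : FrobSch.IsCharP (πY ⁻¹ᵁ U : Scheme.{u}) p := FrobSch.IsCharP.of_hom (πY ⁻¹ᵁ U).ι p
  have hr : Set.range fP ⊆ Set.range (πY ⁻¹ᵁ U).ι := by
    rintro _ ⟨x, rfl⟩
    rw [Scheme.Opens.range_ι]
    show πY (fP x) ∈ U
    rw [← Scheme.Hom.comp_apply, w, Scheme.Hom.comp_apply, ← f.liftCoborder_ι]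
    exact (f.liftCoborder (πX x)).2
  let g := IsOpenImmersion.lift (πY ⁻¹ᵁ U).ι fP hr
  have hg : g ≫ (πY ⁻¹ᵁ U).ι = fP := IsOpenImmersion.lift_fac _ _ _
  haveI : IsClosedImmersion g := by
    refine isClosedImmersion_perfection p hX (isPerfection_morphismRestrict p hY U)
      (f := f.liftCoborder) ?_
    rw [← cancel_mono U.ι, Category.assoc, morphismRestrict_ι, reassoc_of% hg, Category.assoc,
      Scheme.Hom.liftCoborder_ι, w]
  rw [← hg]
  infer_instance

end

end Groth.Agent.PerfSchLib
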